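import Mathlib
import Groth.Agent.S1376

/-!
Lifting irreducible components along a finite surjective morphism after a finite surjective base
change.
-/

set_option autoImplicit false

universe u

open CategoryTheory CategoryTheory.Limits AlgebraicGeometry TopologicalSpace
open scoped Polynomial

namespace Groth.Agent.ComponentLift

/-- In a domain, a root of a split monic polynomial comes from the ring of roots. -/
theorem exists_root_eq {A' L : Type u} [CommRing A'] [CommRing L] [IsDomain L] (ψ : A' →+* L)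
    (q : A'[X]) (hq : q.Splits) (hm : q.Monic) (b : L) (hb : Polynomial.eval₂ ψ b q = 0) :
    ∃ a, ψ a = b := by
  obtain ⟨m, hm'⟩ := Polynomial.splits_iff_exists_multiset.mp hq
  rw [hm'] at hb
  rw [Polynomial.eval₂_mul, Polynomial.eval₂_C, hm.leadingCoeff, map_one, one_mul,
    Polynomial.eval₂_multiset_prod, Multiset.map_map] at hb
  obtain ⟨a, -, ha⟩ := Multiset.mem_map.mp (Multiset.prod_eq_zero_iff.mp hb)
  refine ⟨a, (sub_eq_zero.mp ?_).symm⟩
  simpa using ha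

/-- A finite algebra over an affine base has a finite surjective base change over which all its
points with values in domains are rational. -/
theorem exists_splitting {A C : CommRingCat.{u}} (γ : A ⟶ C) (hγ : γ.hom.Finite) :
    ∃ (A' : CommRingCat.{u}) (δ : A ⟶ A'), δ.hom.Finite ∧ Surjective (Spec.map δ) ∧
      ∀ (D L : CommRingCat.{u}) (_ : IsDomain L) (α : D ⟶ L) (β : C ⟶ L) (ε : A' ⟶ D),
        γ ≫ β = δ ≫ ε ≫ α → ∀ c, ∃ d, α d = β c := by
  classical
  by_cases hA : Nontrivial A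
  swap
  · rw [not_nontrivial_iff_subsingleton] at hA
    refine ⟨A, 𝟙 A, RingHom.Finite.id _, inferInstance, fun D L _ α β ε _ c ↦ ?_⟩
    have : (1 : L) = 0 := by
      have h1 := map_one (ε ≫ α).hom
      rw [Subsingleton.elim (1 : A) 0, map_zero] at h1
      exact h1.symm
    exact absurd this one_ne_zero
  letI := γ.hom.toAlgebra
  haveI : Module.Finite A C := hγ
  obtain ⟨s, hs⟩ := Algebra.FiniteType.out (R := A) (A := C)
  choose p hp using fun c : C ↦ Algebra.IsIntegral.isIntegral (R := A) c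
  let f : A[X] := ∏ c ∈ s, p c
  have hf : f.Monic := Polynomial.monic_prod_of_monic _ _ fun c _ ↦ (hp c).1
  obtain ⟨S, _, _, hSfin, hSfree, hSnt, hsplit⟩ := hf.exists_splits_map
  refine ⟨CommRingCat.of S, CommRingCat.ofHom (algebraMap A S), RingHom.finite_algebraMap.mpr hSfin,
    ⟨?_⟩, fun D L _ α β ε hcomm c ↦ ?_⟩
  · exact PrimeSpectrum.comap_surjective_of_faithfullyFlat (A := A) (B := S)
  have hc' : ∀ a : A, α (ε (algebraMap A S a)) = β (algebraMap A C a) :=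
    fun a ↦ (congrArg (fun k : A ⟶ L ↦ k a) hcomm).symm
  have hgen : ∀ b ∈ s, ∃ d, α d = β b := by
    intro b hb
    obtain ⟨a, ha⟩ := exists_root_eq ((ε ≫ α).hom) (f.map (algebraMap A S)) hsplit (hf.map _) (β b) (by
      rw [Polynomial.eval₂_map, show (ε ≫ α).hom.comp (algebraMap A S) = β.hom.comp (algebraMap A C) from
        RingHom.ext hc', ← Polynomial.hom_eval₂]
      have hf0 : Polynomial.eval₂ (algebraMap A C) b f = 0 := by
        rw [Polynomial.eval₂_finsetProd]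
        exact Finset.prod_eq_zero hb (hp b).2
      rw [hf0, map_zero])
    exact ⟨ε a, ha⟩
  refine Algebra.adjoin_induction (R := A) (s := (s : Set C)) (p := fun c _ ↦ ∃ d, α d = β c)
    hgen (fun r ↦ ⟨ε (algebraMap A S r), hc' r⟩) ?_ ?_ (hs.ge Algebra.mem_top)
  · rintro x y - - ⟨a, ha⟩ ⟨b, hb⟩
    exact ⟨a + b, by rw [map_add, map_add, ha, hb]⟩
  · rintro x y - - ⟨a, ha⟩ ⟨b, hb⟩
    exact ⟨a * b, by rw [map_mul, map_mul, ha, hb]⟩

/-- The local lifting step. -/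
theorem exists_local_lift {Y F' G : Scheme.{u}} [IsIntegral G] (h : F' ⟶ Y) [IsAffineHom h] (hG : G ⟶ Y)
    {K : CommRingCat.{u}} [IsDomain K] (u : Spec K ⟶ G) (v : Spec K ⟶ F')
    (hu : ∀ z, u z = genericPoint G) (huv : v ≫ h = u ≫ hG) {U : Y.Opens} (hU : IsAffineOpen U)
    {A' : CommRingCat.{u}} (δ : Γ(U.toScheme, ⊤) ⟶ A')
    (hδ : ∀ (D L : CommRingCat.{u}) (_ : IsDomain L) (α : D ⟶ L) (β : Γ((h ⁻¹ᵁ U).toScheme, ⊤) ⟶ L) (ε : A' ⟶ D),
      (h ∣_ U).appTop ≫ β = δ ≫ ε ≫ α → ∀ c, ∃ d, α d = β c)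
    (lft : (hG ⁻¹ᵁ U).toScheme ⟶ Spec A') (hlft : lft ≫ Spec.map δ = (hG ∣_ U) ≫ U.toScheme.toSpecΓ)
    (x : G) (hx : hG x ∈ U) :
    ∃ (W : G.Opens) (φ : W.toScheme ⟶ F'), x ∈ W ∧ φ ≫ h = W.ι ≫ hG ∧
      ∀ (k : Spec K ⟶ W.toScheme), k ≫ W.ι = u → k ≫ φ = v := by
  obtain ⟨W, hW, hxW, hWU⟩ := exists_isAffineOpen_mem_and_subset (U := hG ⁻¹ᵁ U) (x := x) hx
  have hWU' : W ≤ hG ⁻¹ᵁ U := hWU
  have hne : genericPoint G ∈ W := ((genericPoint_spec G).mem_open_set_iff W.2).mpr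
    ⟨x, trivial, hxW⟩
  let H := (h ⁻¹ᵁ U).toScheme
  haveI : IsAffine H := hU.preimage h
  haveI : IsAffine U.toScheme := hU
  haveI : IsAffine W.toScheme := hW
  let uW := IsOpenImmersion.lift W.ι u (by
    rintro _ ⟨z, rfl⟩; rw [Scheme.Opens.range_ι, hu]; exact hne)
  have huW : uW ≫ W.ι = u := IsOpenImmersion.lift_fac _ _ _
  let vH := IsOpenImmersion.lift (h ⁻¹ᵁ U).ι v (by
    rintro _ ⟨z, rfl⟩
    rw [Scheme.Opens.range_ι]
    show h (v z) ∈ U
    rw [← Scheme.Hom.comp_apply, huv, Scheme.Hom.comp_apply, hu]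
    exact hWU hne)
  have hvH : vH ≫ (h ⁻¹ᵁ U).ι = v := IsOpenImmersion.lift_fac _ _ _
  let j : W.toScheme ⟶ (hG ⁻¹ᵁ U).toScheme := G.homOfLE hWU'
  have hjι : j ≫ (hG ⁻¹ᵁ U).ι = W.ι := G.homOfLE_ι hWU'
  let hW' := j ≫ (hG ∣_ U)
  let ε : A' ⟶ Γ(W.toScheme, ⊤) := (Scheme.ΓSpecIso A').inv ≫ (j ≫ lft).appTop
  have hε : δ ≫ ε = hW'.appTop := by
    simp only [ε, hW', Scheme.Hom.comp_appTop, ← Category.assoc]
    congr 1
    rw [Scheme.ΓSpecIso_inv_naturality, Category.assoc, ← Scheme.Hom.comp_appTop, hlft,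
      Scheme.Hom.comp_appTop, Scheme.toSpecΓ_appTop, Iso.inv_hom_id_assoc]
  have hcomm : vH ≫ (h ∣_ U) = uW ≫ hW' := by
    rw [← cancel_mono U.ι, Category.assoc, morphismRestrict_ι, reassoc_of% hvH, huv, Category.assoc,
      Category.assoc, morphismRestrict_ι, reassoc_of% hjι, reassoc_of% huW]
  haveI : IsDomain Γ(Spec K, ⊤) :=
    Function.Injective.isDomain (Scheme.ΓSpecIso K).hom.hom
      (ConcreteCategory.bijective_of_isIso (Scheme.ΓSpecIso K).hom).1
  have hinj : Function.Injective uW.appTop.hom := by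
    rw [injective_iff_map_eq_zero]
    intro b hb
    by_contra hb0
    have hne' : W.toScheme.basicOpen b ≠ ⊥ := fun h => hb0 ((basicOpen_eq_bot_iff b).mp h)
    obtain ⟨w, hw⟩ : ∃ w, w ∈ W.toScheme.basicOpen b := by
      by_contra hh
      exact hne' (Opens.ext (Set.eq_empty_iff_forall_notMem.mpr fun w hw => hh ⟨w, hw⟩))
    have hgen : (⟨genericPoint G, hne⟩ : W.toScheme) ∈ W.toScheme.basicOpen b := by
      obtain ⟨z, hz, e⟩ : genericPoint G ∈ W.ι ''ᵁ W.toScheme.basicOpen b :=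
        ((genericPoint_spec G).mem_open_set_iff (W.ι ''ᵁ W.toScheme.basicOpen b).2).mpr
          ⟨W.ι w, trivial, w, hw, rfl⟩
      rwa [← show z = ⟨genericPoint G, hne⟩ from Subtype.ext e]
    obtain ⟨z⟩ : Nonempty (Spec K) := inferInstance
    have hz : z ∈ uW ⁻¹ᵁ W.toScheme.basicOpen b := by
      have e : uW z = (⟨genericPoint G, hne⟩ : W.toScheme) :=
        Subtype.ext ((congrArg (fun k : Spec K ⟶ G => k z) huW).trans (hu z))
      show uW z ∈ W.toScheme.basicOpen b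
      rw [e]
      exact hgen
    rw [Scheme.preimage_basicOpen_top, hb, Scheme.basicOpen_zero] at hz
    exact hz
  have hex := hδ Γ(W.toScheme, ⊤) Γ(Spec K, ⊤) inferInstance uW.appTop vH.appTop ε (by
    rw [← Category.assoc δ, hε, ← Scheme.Hom.comp_appTop, ← Scheme.Hom.comp_appTop, hcomm])
  choose θ hθ using hex
  let Θ : Γ(H, ⊤) ⟶ Γ(W.toScheme, ⊤) := CommRingCat.ofHom
    { toFun := θ
      map_one' := hinj ((hθ 1).trans ((map_one _).trans (map_one _).symm))
      map_mul' := fun a b => hinj ((hθ _).trans ((map_mul _ a b).trans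
        ((congrArg₂ (· * ·) (hθ a).symm (hθ b).symm).trans (map_mul _ _ _).symm)))
      map_zero' := hinj ((hθ 0).trans ((map_zero _).trans (map_zero _).symm))
      map_add' := fun a b => hinj ((hθ _).trans ((map_add _ a b).trans
        ((congrArg₂ (· + ·) (hθ a).symm (hθ b).symm).trans (map_add _ _ _).symm))) }
  have hΘ : Θ ≫ uW.appTop = vH.appTop := by ext c; exact hθ c
  let φH : W.toScheme ⟶ H := W.toScheme.toSpecΓ ≫ Spec.map Θ ≫ H.isoSpec.inv
  have hφH : φH.appTop = Θ := by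
    simp [φH, Scheme.isoSpec, Scheme.toSpecΓ_appTop]
  refine ⟨W, φH ≫ (h ⁻¹ᵁ U).ι, hxW, ?_, fun k hk => ?_⟩
  · have : φH ≫ (h ∣_ U) = hW' := by
      refine ext_of_isAffine ?_
      rw [Scheme.Hom.comp_appTop, hφH]
      ext a
      refine hinj ?_
      show (((h ∣_ U).appTop ≫ Θ) ≫ uW.appTop) a = (hW'.appTop ≫ uW.appTop) a
      rw [Category.assoc, hΘ, ← Scheme.Hom.comp_appTop, ← Scheme.Hom.comp_appTop, hcomm]
    rw [Category.assoc, ← morphismRestrict_ι, ← Category.assoc, this, Category.assoc, morphismRestrict_ι,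
      reassoc_of% hjι]
  · obtain rfl : k = uW := by rw [← cancel_mono W.ι, hk, huW]
    rw [← hvH, ← Category.assoc]
    refine congrArg (· ≫ (h ⁻¹ᵁ U).ι) (ext_of_isAffine ?_)
    rw [Scheme.Hom.comp_appTop, hφH, hΘ]

/-- Finitely many finite surjective morphisms are dominated by a single one. -/
theorem exists_dominating {Y : Scheme.{u}} : ∀ (n : ℕ) (Z : Fin n → Scheme.{u}) (π : ∀ k, Z k ⟶ Y),
    (∀ k, IsFinite (π k)) → (∀ k, Surjective (π k)) →
    ∃ (Y' : Scheme.{u}) (g : Y' ⟶ Y), IsFinite g ∧ Surjective g ∧ ∀ k, ∃ l : Y' ⟶ Z k, l ≫ π k = g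
  | 0, _, _, _, _ => ⟨Y, 𝟙 Y, inferInstance, inferInstance, fun k => k.elim0⟩
  | n + 1, Z, π, hf, hs => by
    obtain ⟨Y', g, hg, hgs, hl⟩ := exists_dominating n (fun k => Z k.succ) (fun k => π k.succ)
      (fun k => hf _) (fun k => hs _)
    haveI := hf 0
    haveI := hs 0
    refine ⟨pullback g (π 0), pullback.fst g (π 0) ≫ g, inferInstance, inferInstance, fun k => ?_⟩
    refine Fin.cases ⟨pullback.snd _ _, pullback.condition.symm⟩ (fun j => ?_) k
    obtain ⟨l, hlj⟩ := hl j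
    exact ⟨pullback.fst _ _ ≫ l, by rw [Category.assoc, hlj]⟩

theorem exists_lift_components {Y F F' : Scheme.{u}} [IsNoetherian Y] (i : F ⟶ Y) [IsClosedImmersion i]
    (s : F' ⟶ F) [IsFinite s] [Surjective s] :
    ∃ (Y' : Scheme.{u}) (g : Y' ⟶ Y), IsFinite g ∧ Surjective g ∧
      ∀ (G : Scheme.{u}) (ι : G ⟶ pullback i g) [IsClosedImmersion ι] [AlgebraicGeometry.IsReduced G],
        Set.range ι.base ∈ irreducibleComponents ↥(pullback i g) →
          ∃ φ : G ⟶ F', φ ≫ s = ι ≫ pullback.fst i g := by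
  classical
  let h := s ≫ i
  haveI : IsFinite h := inferInstance
  let 𝒰 := Y.affineCover.finiteSubcover
  let U : 𝒰.I₀ → Y.Opens := fun k => (𝒰.f k).opensRange
  have hU : ∀ k, IsAffineOpen (U k) := fun k => isAffineOpen_opensRange (𝒰.f k)
  haveI : ∀ k, IsAffine (U k).toScheme := hU
  haveI : ∀ k, IsAffine (h ⁻¹ᵁ U k).toScheme := fun k => (hU k).preimage h
  have hfin : ∀ k, (h ∣_ U k).appTop.hom.Finite := fun k =>
    ((HasAffineProperty.iff_of_isAffine (P := @IsFinite) (f := h ∣_ U k)).mp inferInstance).2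
  choose A' δ hδf hδs hδ using fun k => exists_splitting (h ∣_ U k).appTop (hfin k)
  let vk : ∀ k, Spec (A' k) ⟶ (U k).toScheme := fun k => Spec.map (δ k) ≫ (U k).toScheme.isoSpec.inv
  haveI : ∀ k, IsFinite (Spec.map (δ k)) := fun k => (IsFinite.SpecMap_iff (δ k)).mpr (hδf k)
  haveI : ∀ k, Surjective (Spec.map (δ k)) := hδs
  choose Z π e hπs hπf hpb using fun k => S1376.result (U k) (hU k).isCompact (vk k)
  haveI : Fintype 𝒰.I₀ := Fintype.ofFinite _
  let eq := Fintype.equivFin 𝒰.I₀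
  obtain ⟨Y', g, hg, hgs, hl⟩ := exists_dominating (Fintype.card 𝒰.I₀) (fun m => Z (eq.symm m))
    (fun m => π (eq.symm m)) (fun m => hπf _) (fun m => hπs _)
  refine ⟨Y', g, hg, hgs, fun G ι _ _ hcomp => ?_⟩
  haveI : IrreducibleSpace G := by
    have hirr : IsIrreducible (Set.range ι) := hcomp.1
    haveI : Nonempty G := by
      obtain ⟨_, ⟨z, rfl⟩⟩ := hirr.nonempty
      exact ⟨z⟩
    have hp : IsPreirreducible (Set.univ : Set G) := by
      rintro O₁ O₂ hO₁ hO₂ ⟨a, -, ha⟩ ⟨b, -, hb⟩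
      obtain ⟨O₁', hO₁', rfl⟩ := ι.isClosedEmbedding.isInducing.isOpen_iff.mp hO₁
      obtain ⟨O₂', hO₂', rfl⟩ := ι.isClosedEmbedding.isInducing.isOpen_iff.mp hO₂
      obtain ⟨_, ⟨z, rfl⟩, hz⟩ := hirr.2 O₁' O₂' hO₁' hO₂' ⟨_, ⟨a, rfl⟩, ha⟩ ⟨_, ⟨b, rfl⟩, hb⟩
      exact ⟨z, trivial, hz⟩
    exact { isPreirreducible_univ := hp, toNonempty := inferInstance }
  haveI : IsIntegral G := isIntegral_of_irreducibleSpace_of_isReduced G
  let t := ι ≫ pullback.fst i g
  let hG := ι ≫ pullback.snd i g ≫ g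
  have htG : t ≫ i = hG := by
    simp only [t, hG, Category.assoc, pullback.condition]
  obtain ⟨p, hp⟩ := (pullback.snd s t).surjective (genericPoint G)
  let P := pullback s t
  let K : CommRingCat.{u} := P.residueField p
  let u : Spec K ⟶ G := P.fromSpecResidueField p ≫ pullback.snd s t
  let v : Spec K ⟶ F' := P.fromSpecResidueField p ≫ pullback.fst s t
  have hu : ∀ z, u z = genericPoint G := by
    intro z
    rw [← hp, Scheme.Hom.comp_apply, Scheme.fromSpecResidueField_apply]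
  have huv : v ≫ h = u ≫ hG := by
    simp only [u, v, h, Category.assoc, ← htG]
    rw [pullback.condition_assoc]
  have hloc : ∀ x : G, ∃ (W : G.Opens) (φ : W.toScheme ⟶ F'), x ∈ W ∧ φ ≫ h = W.ι ≫ hG ∧
      ∀ (k : Spec K ⟶ W.toScheme), k ≫ W.ι = u → k ≫ φ = v := by
    intro x
    obtain ⟨k, y, hy⟩ := 𝒰.exists_eq (hG x)
    have hxU : hG x ∈ U k := ⟨y, hy⟩
    obtain ⟨l, hlk⟩ := hl (eq k)
    obtain ⟨l, hlk⟩ : ∃ l : Y' ⟶ Z k, l ≫ π k = g := by
      rw [← eq.symm_apply_apply k]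
      exact ⟨l, hlk⟩
    let a : G ⟶ Z k := ι ≫ pullback.snd i g ≫ l
    let lft := (hpb k).lift ((hG ⁻¹ᵁ U k).ι ≫ a) (hG ∣_ U k) (by
      simp only [a, Category.assoc, hlk, morphismRestrict_ι]
      rfl)
    have hl2 : lft ≫ vk k = hG ∣_ U k := (hpb k).lift_snd _ _ _
    refine exists_local_lift h hG u v hu huv (hU k) (δ k) (hδ k) lft ?_ x hxU
    rw [← hl2]
    simp [vk, Scheme.isoSpec]
  choose W φ hxW hφ hφv using hloc
  let 𝒲 : G.OpenCover := G.openCoverOfIsOpenCover W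
    (TopologicalSpace.IsOpenCover.mk (top_le_iff.mp fun x _ => Opens.mem_iSup.mpr ⟨x, hxW x⟩))
  have hglue : ∀ x y : G, pullback.fst (𝒲.f x) (𝒲.f y) ≫ φ x = pullback.snd (𝒲.f x) (𝒲.f y) ≫ φ y := by
    intro x y
    haveI : IsReduced (pullback (𝒲.f x) (𝒲.f y)) :=
      isReduced_of_isOpenImmersion (pullback.fst (𝒲.f x) (𝒲.f y))
    have hmem : ∀ z, genericPoint G ∈ W z := fun z =>
      ((genericPoint_spec G).mem_open_set_iff (W z).2).mpr ⟨z, trivial, hxW z⟩
    let kx := IsOpenImmersion.lift (W x).ι u (by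
      rintro _ ⟨z, rfl⟩; rw [Scheme.Opens.range_ι, hu]; exact hmem x)
    let ky := IsOpenImmersion.lift (W y).ι u (by
      rintro _ ⟨z, rfl⟩; rw [Scheme.Opens.range_ι, hu]; exact hmem y)
    have hkx : kx ≫ (W x).ι = u := IsOpenImmersion.lift_fac _ _ _
    have hky : ky ≫ (W y).ι = u := IsOpenImmersion.lift_fac _ _ _
    let kk : Spec K ⟶ pullback (𝒲.f x) (𝒲.f y) := pullback.lift kx ky (hkx.trans hky.symm)
    let c := pullback.fst (𝒲.f x) (𝒲.f y) ≫ 𝒲.f x
    haveI : IsDominant kk := by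
      refine ⟨fun z => mem_closure_iff.mpr fun O hO hz => ?_⟩
      obtain ⟨q⟩ : Nonempty (Spec K) := inferInstance
      have hcO : IsOpen (c '' O) := c.isOpenEmbedding.isOpenMap O hO
      obtain ⟨z', hz', e⟩ : genericPoint G ∈ c '' O :=
        ((genericPoint_spec G).mem_open_set_iff hcO).mpr ⟨c z, trivial, z, hz, rfl⟩
      refine ⟨z', hz', q, c.isOpenEmbedding.injective ?_⟩
      rw [e, ← Scheme.Hom.comp_apply]
      have : kk ≫ c = u := by simp only [kk, c, pullback.lift_fst_assoc]; exact hkx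
      rw [this, hu]
    refine ext_of_isDominant_of_isSeparated h ?_ kk ?_
    · exact ((Category.assoc _ _ _).trans (congrArg (pullback.fst (𝒲.f x) (𝒲.f y) ≫ ·) (hφ x))).trans
        ((pullback.condition_assoc hG).trans
          ((Category.assoc _ _ _).trans (congrArg (pullback.snd (𝒲.f x) (𝒲.f y) ≫ ·) (hφ y))).symm)
    · simp only [kk, pullback.lift_fst_assoc, pullback.lift_snd_assoc]
      exact (hφv x kx hkx).trans (hφv y ky hky).symm
  refine ⟨Scheme.Cover.glueMorphisms 𝒲 φ hglue, ?_⟩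
  rw [← cancel_mono i, Category.assoc, htG]
  refine 𝒲.hom_ext _ _ fun x => ?_
  rw [← Category.assoc, Scheme.Cover.ι_glueMorphisms]
  exact hφ x

end Groth.Agent.ComponentLift
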